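import Cfsg.Agent.H319.One.Base
import Cfsg.Agent.OddRank.SzTits
import Cfsg.Agent.S1156

/-!
# S4880, the rows `Sz(q)` and `²G₂(q)` (helper488)

The Sylow `p`-subgroups are cyclic for `p ≥ 5`.
-/

set_option autoImplicit false

namespace Cfsg.Agent.H488.One.SzRee

open Cfsg Cfsg.Agent.H319.One

universe u

variable {p n : ℕ} [Fact p.Prime] {S : Type u} [Group S] [Finite S]

theorem row_sz (hS : Lie.IsoSuzuki S) (h : Hyp p n S) : False := by
  obtain ⟨P⟩ : Nonempty (Sylow p S) := inferInstance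
  have h5 := h.five
  exact h.not_cyclic P (OddRank.SzTits.isCyclic_of_isPGroup hS (by omega) P P.isPGroup')

theorem row_ree (hS : Lie.IsoRee S) (h : Hyp p n S) : False := by
  obtain ⟨K, _, _, m, hm, hK, ⟨e⟩⟩ := hS
  have h' := h.congr e
  obtain ⟨P⟩ : Nonempty (Sylow p ↥(Cfsg.Lie.twistedG2 K (3 ^ m))) := inferInstance
  have h5 := h.five
  exact h'.not_cyclic P (Cfsg.Agent.S1156.result hm hK (by omega) P)

end Cfsg.Agent.H488.One.SzRee
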